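import Groth.Agent.H9Misc.DRingRelPC3
import Groth.Agent.S2087
import Mathlib

/-!
# Pseudo-coherent ring maps: a local property of ring homomorphisms
-/

set_option linter.style.haveILetI false

universe u

open CategoryTheory CategoryTheory.Limits MvPolynomial
open scoped TensorProduct

attribute [local instance] HasDerivedCategory.standard MvPolynomial.algebraMvPolynomial

namespace Groth.Agent.PCMor

open H9Misc H9Misc.DRingTor H9Misc.DRingTorDescent H9Misc.DRingRestrict H9Misc.DRingRelPC

variable {A B C : Type u} [CommRing A] [CommRing B] [CommRing C]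

/-- `φ` is a pseudo-coherent ring map, in presentation form. -/
def Q {A B : Type u} [CommRing A] [CommRing B] (φ : A →+* B) : Prop :=
  ∃ (n : ℕ) (ψ : MvPolynomial (Fin n) A →+* B), ψ.comp MvPolynomial.C = φ ∧ Function.Surjective ψ ∧ PCHom ψ

theorem pcHom_iff [Algebra A B] : PCHom (algebraMap A B) ↔ DRing.IsPseudoCoherentModule' A B :=
  ⟨DRingPC.of_iso' ((DerivedCategory.singleFunctor (ModuleCat.{u} A) 0).mapIso (resBIso B)), pc'_resB⟩

theorem pcHom_cancel {φ : A →+* B} {χ : B →+* C} (hφ : PCHom φ) (h : PCHom (χ.comp φ)) : PCHom χ := by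
  refine (DRingPC.pc'_iff _).2 fun m => (pc_restrict_iff φ hφ m _).2 ?_
  refine DRingPC.of_iso ?_ ((DRingPC.pc'_iff _).1 h m)
  exact (restrictInDIso φ _ ≪≫ (DerivedCategory.singleFunctor (ModuleCat.{u} A) 0).mapIso
    (ModuleCat.restrictScalarsComp'App φ χ (χ.comp φ) rfl (ModuleCat.of C C)).symm).symm

/-- Independence of the presentation. -/
theorem pcHom_indep {n k : ℕ} (ψ : MvPolynomial (Fin n) A →+* B) (hψ : Function.Surjective ψ) (hp : PCHom ψ)
    (ψ' : MvPolynomial (Fin k) A →+* B) (hψ' : Function.Surjective ψ') (hC : ψ'.comp MvPolynomial.C = ψ.comp MvPolynomial.C) :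
    PCHom ψ' := by
  choose p hp' using fun j : Fin k => hψ (ψ' (X j))
  choose q hq' using fun i : Fin n => hψ' (ψ (X i))
  let ρ : MvPolynomial (Fin k) (MvPolynomial (Fin n) A) →+* MvPolynomial (Fin n) A := eval₂Hom (RingHom.id _) p
  let σ := (commAlgEquiv A (Fin k) (Fin n)).toRingEquiv.toRingHom
  let ρ' : MvPolynomial (Fin k) (MvPolynomial (Fin n) A) →+* MvPolynomial (Fin k) A :=
    (eval₂Hom (RingHom.id _) q).comp σ
  have hρ' : PCHom ρ' :=
    (PCHom.of_bijective (commAlgEquiv A (Fin k) (Fin n)).bijective).comp (pcHom_aeval n _ q)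
  refine pcHom_cancel hρ' ?_
  have heq : ψ'.comp ρ' = ψ.comp ρ := by
    refine MvPolynomial.ringHom_ext (fun r => ?_) fun j => ?_
    · show (ψ'.comp (ρ'.comp MvPolynomial.C)) r = (ψ.comp (ρ.comp MvPolynomial.C)) r
      refine RingHom.congr_fun (MvPolynomial.ringHom_ext (fun s => ?_) fun i => ?_) r
      · have hs := RingHom.congr_fun hC s
        simpa [ρ, ρ', σ] using hs
      · simp [ρ, ρ', σ, hq']
    · simp [ρ, ρ', σ, hp']
  rw [heq]
  exact (pcHom_aeval k _ p).comp hp

/-- Any surjective presentation of a pseudo-coherent ring map is pseudo-coherent. -/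
theorem Q.pcHom {φ : A →+* B} (h : Q φ) {k : ℕ} (ψ' : MvPolynomial (Fin k) A →+* B)
    (hψ' : Function.Surjective ψ') (hC : ψ'.comp MvPolynomial.C = φ) : PCHom ψ' := by
  obtain ⟨n, ψ, h1, h2, h3⟩ := h
  exact pcHom_indep ψ h2 h3 ψ' hψ' (hC.trans h1.symm)

/-- The iso `A[Fin k ⊕ Fin n] ≅ A[n][k]`. -/
noncomputable def nestEquiv (A : Type u) [CommRing A] (k n : ℕ) :
    MvPolynomial (Fin (k + n)) A ≃ₐ[A] MvPolynomial (Fin k) (MvPolynomial (Fin n) A) :=
  (renameEquiv A finSumFinEquiv.symm).trans (sumAlgEquiv A (Fin k) (Fin n))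

theorem Q.pcHom_nested {φ : A →+* B} (h : Q φ) {k n : ℕ}
    (ψ : MvPolynomial (Fin k) (MvPolynomial (Fin n) A) →+* B) (hψ : Function.Surjective ψ)
    (hC : ∀ a, ψ (MvPolynomial.C (MvPolynomial.C a)) = φ a) : PCHom ψ := by
  refine pcHom_cancel (PCHom.of_bijective (φ := (nestEquiv A k n).toRingEquiv.toRingHom) (nestEquiv A k n).bijective) ?_
  refine h.pcHom _ (hψ.comp (nestEquiv A k n).surjective) (RingHom.ext fun a => ?_)
  refine Eq.trans ?_ (hC a)
  show ψ (nestEquiv A k n (MvPolynomial.C a)) = _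
  rw [show (MvPolynomial.C a : MvPolynomial (Fin (k + n)) A) = algebraMap A _ a from rfl, AlgEquiv.commutes]
  rfl

theorem Q.of_nested {φ : A →+* B} {k n : ℕ}
    (ψ : MvPolynomial (Fin k) (MvPolynomial (Fin n) A) →+* B) (hψ : Function.Surjective ψ)
    (hC : ∀ a, ψ (MvPolynomial.C (MvPolynomial.C a)) = φ a) (hp : PCHom ψ) : Q φ := by
  refine ⟨k + n, ψ.comp (nestEquiv A k n).toRingEquiv.toRingHom, RingHom.ext fun a => ?_,
    hψ.comp (nestEquiv A k n).surjective, (PCHom.of_bijective (nestEquiv A k n).bijective).comp hp⟩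
  refine Eq.trans ?_ (hC a)
  show ψ (nestEquiv A k n (MvPolynomial.C a)) = _
  rw [show (MvPolynomial.C a : MvPolynomial (Fin (k + n)) A) = algebraMap A _ a from rfl, AlgEquiv.commutes]
  rfl

theorem Q.finiteType {φ : A →+* B} (h : Q φ) : φ.FiniteType := by
  obtain ⟨n, ψ, h1, h2, -⟩ := h
  subst h1
  exact RingHom.FiniteType.comp (RingHom.FiniteType.of_surjective ψ h2)
    (RingHom.finiteType_algebraMap.2 (inferInstanceAs (Algebra.FiniteType A (MvPolynomial (Fin n) A))))

theorem exists_surjective {φ : A →+* B} (h : φ.FiniteType) :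
    ∃ (n : ℕ) (ψ : MvPolynomial (Fin n) A →+* B), ψ.comp MvPolynomial.C = φ ∧ Function.Surjective ψ := by
  algebraize [φ]
  obtain ⟨n, α, hα⟩ := Algebra.FiniteType.iff_quotient_mvPolynomial''.1 (‹Algebra.FiniteType A B›)
  exact ⟨n, α.toRingHom, RingHom.ext fun a => α.commutes a, hα⟩

/-- Flat base change. -/
theorem pcHom_pushout {P P' B' : Type u} [CommRing P] [CommRing P'] [CommRing B'] [Algebra P B] [Algebra P P']
    [Module.Flat P P'] [Algebra P' B'] [Algebra B B'] [Algebra P B'] [IsScalarTower P P' B']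
    [IsScalarTower P B B'] [Algebra.IsPushout P P' B B'] (h : PCHom (algebraMap P B)) :
    PCHom (algebraMap P' B') := by
  rw [pcHom_iff] at h ⊢
  have h1 : DRing.IsPseudoCoherentModule' P' (P' ⊗[P] B) := by
    refine (DRingPC.pc'_iff _).2 fun m => ?_
    have h2 := module_baseChange (algebraMap P P') (RingHom.flat_algebraMap_iff.2 inferInstance) m
      (ModuleCat.of P B) ((DRingPC.pc'_iff _).1 h m)
    have he : (algebraMap P P').toAlgebra = ‹Algebra P P'› := Algebra.algebra_ext _ _ fun _ => rfl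
    revert h2
    generalize algebraMap P P' = φ at he
    subst he
    exact fun h => h
  exact DRingPC.of_iso' ((DerivedCategory.singleFunctor (ModuleCat.{u} P') 0).mapIso
    (Algebra.IsPushout.equiv P P' B B').toLinearEquiv.toModuleIso) h1

theorem pcHom_map {ψ : A →+* B} (h : PCHom ψ) (k : ℕ) :
    PCHom (MvPolynomial.map (σ := Fin k) ψ) := by
  algebraize [ψ]
  haveI : IsScalarTower A (MvPolynomial (Fin k) A) (MvPolynomial (Fin k) B) :=
    .of_algebraMap_eq fun a => (MvPolynomial.map_C _ a).symm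
  exact pcHom_pushout (P := A) (P' := MvPolynomial (Fin k) A) (B := B) (B' := MvPolynomial (Fin k) B) h

theorem Q.comp {φ : A →+* B} {χ : B →+* C} (hφ : Q φ) (hχ : Q χ) : Q (χ.comp φ) := by
  obtain ⟨n, α, hα1, hα2, hα3⟩ := hφ
  obtain ⟨k, β, hβ1, hβ2, hβ3⟩ := hχ
  refine Q.of_nested (β.comp (MvPolynomial.map α)) (hβ2.comp (MvPolynomial.map_surjective α hα2))
    (fun a => ?_) ((pcHom_map hα3 k).comp hβ3)
  subst hα1 hβ1
  simp

theorem Q.cancel {φ : A →+* B} {χ : B →+* C} (hφ : Q φ) (h : Q (χ.comp φ)) : Q χ := by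
  obtain ⟨k, β, hβ1, hβ2⟩ := exists_surjective (RingHom.FiniteType.of_comp_finiteType h.finiteType)
  obtain ⟨n, α, hα1, hα2, hα3⟩ := hφ
  refine ⟨k, β, hβ1, hβ2, pcHom_cancel (pcHom_map hα3 k) ?_⟩
  refine h.pcHom_nested _ (hβ2.comp (MvPolynomial.map_surjective α hα2)) fun a => ?_
  subst hα1 hβ1
  simp

theorem Q.of_bijective {φ : A →+* B} (h : Function.Bijective φ) : Q φ := by
  refine ⟨0, φ.comp (isEmptyAlgEquiv A (Fin 0)).toRingEquiv.toRingHom, RingHom.ext fun a => ?_,
    h.2.comp (isEmptyAlgEquiv A (Fin 0)).surjective,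
    (PCHom.of_bijective (isEmptyAlgEquiv A (Fin 0)).bijective).comp (PCHom.of_bijective h)⟩
  show φ ((isEmptyAlgEquiv A (Fin 0)) (algebraMap A _ a)) = φ a
  rw [AlgEquiv.commutes]
  rfl

theorem Q.away (r : A) : Q (algebraMap A (Localization.Away r)) := by
  refine ⟨1, _, RingHom.ext fun a => ?_, ?_, pcHom_away_mv r⟩
  · simp
  intro x
  obtain ⟨⟨a, ⟨_, k, rfl⟩⟩, hx⟩ := IsLocalization.surj (Submonoid.powers r) x
  refine ⟨MvPolynomial.C a * X 0 ^ k, ?_⟩
  simp only [map_mul, map_pow, eval₂Hom_C, eval₂Hom_X']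
  rw [← hx, mul_assoc, map_pow, ← mul_pow, IsLocalization.Away.mul_invSelf, one_pow, mul_one]

theorem respectsIso : RingHom.RespectsIso @Q :=
  ⟨fun {_ _ _} _ _ _ f e h => h.comp (Q.of_bijective e.bijective),
    fun {_ _ _} _ _ _ f e h => (Q.of_bijective e.bijective).comp h⟩

theorem holdsForLocalizationAway : RingHom.HoldsForLocalizationAway @Q := by
  intro R S _ _ _ r _
  let e := IsLocalization.algEquiv (Submonoid.powers r) (Localization.Away r) S
  have h : (e.toRingEquiv.toRingHom).comp (algebraMap R (Localization.Away r)) = algebraMap R S :=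
    RingHom.ext e.commutes
  exact h ▸ (Q.away r).comp (Q.of_bijective e.bijective)

theorem stableUnderComposition : RingHom.StableUnderComposition @Q :=
  fun _ _ _ _ _ _ _ _ hf hg => hf.comp hg

theorem localizationAwayPreserves : RingHom.LocalizationAwayPreserves @Q := by
  intro R S _ _ f r R' S' _ _ _ _ _ _ hf
  refine Q.cancel (holdsForLocalizationAway R' r) ?_
  rw [IsLocalization.Away.map, IsLocalization.map_comp]
  exact hf.comp (holdsForLocalizationAway S' (f r))

/-- Extension of scalars of the unit module. -/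
noncomputable def extendSelfIso {L : Type u} [CommRing L] (φ : B →+* L) :
    (ModuleCat.extendScalars.{u, u, u} φ).obj (ModuleCat.of B B) ≅ ModuleCat.of L L :=
  letI := φ.toAlgebra
  (TensorProduct.AlgebraTensorModule.rid B L L).toModuleIso

/-- Zariski locality of pseudo-coherence along a surjection. -/
theorem pcHom_local {P : Type u} [CommRing P] (α : P →+* B) (hα : Function.Surjective α) {r : ℕ} (G : Fin r → P)
    (hG : Ideal.span (Set.range fun i => α (G i)) = ⊤) (h : ∀ i, PCHom (awayα α (G i))) : PCHom α := by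
  obtain ⟨c, hc⟩ := (Ideal.mem_span_range_iff_exists_fun).1
    (hG ▸ Submodule.mem_top : (1 : B) ∈ Ideal.span (Set.range fun i => α (G i)))
  choose c' hc' using fun i => hα (c i)
  let G₀ : P := 1 - ∑ i, c' i * G i
  have hG₀ : α G₀ = 0 := by simp [G₀, hc', hc]
  let g : Fin (r + 1) → P := Fin.cons G₀ G
  have hg : Ideal.span (Set.range g) = ⊤ := by
    rw [Ideal.eq_top_iff_one, show (1 : P) = G₀ + ∑ i, c' i * G i from (sub_add_cancel 1 _).symm]
    exact add_mem (Ideal.subset_span ⟨0, rfl⟩)
      (sum_mem fun i _ => Ideal.mul_mem_left _ _ (Ideal.subset_span ⟨i.succ, by simp [g]⟩))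
  let M := (ModuleCat.restrictScalars α).obj (ModuleCat.of B B)
  have hloc : ∀ i, PCHom (awayα α (g i)) := by
    intro i
    cases i using Fin.cases with
    | succ j => exact h j
    | zero =>
      haveI : Subsingleton (Localization.Away (α G₀)) :=
        IsLocalization.subsingleton (M := Submonoid.powers (α G₀)) ⟨1, by simpa using hG₀⟩
      let L : ModuleCat.{u} (Localization.Away G₀) :=
        (ModuleCat.restrictScalars (awayα α G₀)).obj (ModuleCat.of _ (Localization.Away (α G₀)))
      haveI : Subsingleton L := inferInstanceAs (Subsingleton (Localization.Away (α G₀)))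
      exact (DRingPC.pc'_iff _).2 fun m => Triage.NoethPC.pc_of_free (A := Localization.Away G₀) L m
  refine (DRingPC.pc'_iff _).2 fun m => ?_
  refine DRingPC.of_iso ((DerivedCategory.singleFunctorIsoCompQ (ModuleCat.{u} P) 0).app M).symm
    (Groth.Agent.S2087.result g hg ((HomologicalComplex.single _ (ComplexShape.up ℤ) 0).obj M) m fun i => ?_)
  let L := ModuleCat.of (Localization.Away (α (g i))) (Localization.Away (α (g i)))
  let eB : (ModuleCat.extendScalars.{u, u, u} (algebraMap B (Localization.Away (α (g i))))).obj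
      (ModuleCat.of B B) ≅ L :=
    extendSelfIso _
  let eM := (thetaIso α (g i)).app (ModuleCat.of B B) ≪≫ (ModuleCat.restrictScalars _).mapIso eB
  refine DRingPC.of_iso ?_ ((DRingPC.pc'_iff _).1 (hloc i) m)
  exact (DerivedCategory.singleFunctor _ 0).mapIso eM.symm ≪≫
    (DerivedCategory.singleFunctorIsoCompQ _ 0).app _ ≪≫
    DerivedCategory.Q.mapIso ((HomologicalComplex.singleMapHomologicalComplex
      (ModuleCat.extendScalars.{u, u, u} (algebraMap P (Localization.Away (g i)))) (ComplexShape.up ℤ) 0).app M).symm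

theorem ofLocalizationSpanTarget : RingHom.OfLocalizationSpanTarget @Q := by
  rw [RingHom.ofLocalizationSpanTarget_iff_finite]
  intro R S _ _ f s hs h
  obtain ⟨n, α, hα1, hα2⟩ := exists_surjective (RingHom.finiteType_ofLocalizationSpanTarget f (s : Set S) hs
    fun r => (h r).finiteType)
  refine ⟨n, α, hα1, hα2, ?_⟩
  choose G hG using fun i : Fin s.card => hα2 (s.equivFin.symm i).1
  refine pcHom_local α hα2 G ?_ fun i => ?_
  · rw [← hs]
    congr 1
    ext x
    constructor
    · rintro ⟨i, rfl⟩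
      change α (G i) ∈ s
      rw [hG]
      exact (s.equivFin.symm i).2
    · intro hx
      exact ⟨s.equivFin ⟨x, hx⟩, by simp [hG]⟩
  · have hQ : Q ((algebraMap S (Localization.Away (α (G i)))).comp f) := by
      rw [hG]
      exact h (s.equivFin.symm i)
    have hsurj : Function.Surjective ((awayα α (G i)).comp (eval₂Hom (algebraMap (MvPolynomial (Fin n) R) (Localization.Away (G i)))
        (fun _ : Fin 1 => IsLocalization.Away.invSelf (G i)))) := by
      intro x
      obtain ⟨⟨a, ⟨_, k, rfl⟩⟩, hx⟩ := IsLocalization.surj (Submonoid.powers (α (G i))) x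
      obtain ⟨a', rfl⟩ := hα2 a
      have hu : awayα α (G i) (algebraMap _ _ (G i)) = algebraMap S _ (α (G i)) :=
        RingHom.congr_fun (awayα_comp α (G i)) (G i)
      have hinv : algebraMap S (Localization.Away (α (G i))) (α (G i)) *
          awayα α (G i) (IsLocalization.Away.invSelf (G i)) = 1 := by
        rw [← hu, ← map_mul, IsLocalization.Away.mul_invSelf, map_one]
      refine ⟨MvPolynomial.C a' * X 0 ^ k, ?_⟩
      simp only [RingHom.comp_apply, map_mul, map_pow, eval₂Hom_C, eval₂Hom_X']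
      rw [show awayα α (G i) (algebraMap _ _ a') = algebraMap S _ (α a') from
        RingHom.congr_fun (awayα_comp α (G i)) a', ← hx, mul_assoc, map_pow, ← mul_pow, hinv, one_pow, mul_one]
    refine pcHom_cancel (pcHom_away_mv (G i)) (hQ.pcHom_nested _ hsurj fun a => ?_)
    simp only [RingHom.comp_apply, eval₂Hom_C]
    rw [← hα1]
    exact RingHom.congr_fun (awayα_comp α (G i)) (MvPolynomial.C a)

theorem propertyIsLocal : RingHom.PropertyIsLocal @Q :=
  ⟨localizationAwayPreserves, ofLocalizationSpanTarget,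
    ofLocalizationSpanTarget.ofLocalizationSpan
      (stableUnderComposition.stableUnderCompositionWithLocalizationAway holdsForLocalizationAway).left,
    (stableUnderComposition.stableUnderCompositionWithLocalizationAway holdsForLocalizationAway).right⟩

/-- Flat base change of pseudo-coherent ring maps. -/
theorem Q.pushout {A' B' : Type u} [CommRing A'] [CommRing B'] [Algebra A B] [Algebra A A'] [Module.Flat A A']
    [Algebra A' B'] [Algebra B B'] [Algebra A B'] [IsScalarTower A A' B'] [IsScalarTower A B B']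
    [Algebra.IsPushout A A' B B'] (h : Q (algebraMap A B)) : Q (algebraMap A' B') := by
  obtain ⟨n, ψ, hψ1, hψ2, hψ3⟩ := h
  let ψ' : MvPolynomial (Fin n) A' →+* B' :=
    eval₂Hom (algebraMap A' B') fun i => algebraMap B B' (ψ (X i))
  letI := ψ.toAlgebra
  letI := ψ'.toAlgebra
  haveI : IsScalarTower A (MvPolynomial (Fin n) A) (MvPolynomial (Fin n) A') :=
    .of_algebraMap_eq fun a => (MvPolynomial.map_C _ a).symm
  letI : Algebra (MvPolynomial (Fin n) A) B' := ((algebraMap B B').comp ψ).toAlgebra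
  haveI : IsScalarTower A (MvPolynomial (Fin n) A) B := .of_algebraMap_eq fun a => by
    exact (RingHom.congr_fun hψ1 a).symm
  haveI : IsScalarTower A' (MvPolynomial (Fin n) A') B' := .of_algebraMap_eq fun a => by
    show _ = ψ' (MvPolynomial.C a)
    simp [ψ']
  haveI : IsScalarTower (MvPolynomial (Fin n) A) B B' := .of_algebraMap_eq fun _ => rfl
  haveI : IsScalarTower A (MvPolynomial (Fin n) A) B' := .of_algebraMap_eq fun a => by
    show _ = algebraMap B B' (ψ (MvPolynomial.C a))
    rw [← RingHom.comp_apply ψ, hψ1, ← IsScalarTower.algebraMap_apply]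
  haveI : IsScalarTower (MvPolynomial (Fin n) A) (MvPolynomial (Fin n) A') B' := .of_algebraMap_eq' <| by
    refine MvPolynomial.ringHom_ext (fun a => ?_) fun i => ?_
    · show algebraMap B B' (ψ (MvPolynomial.C a)) = ψ' (MvPolynomial.map _ (MvPolynomial.C a))
      rw [← RingHom.comp_apply ψ, hψ1]
      simp [ψ', ← IsScalarTower.algebraMap_apply]
    · show algebraMap B B' (ψ (X i)) = ψ' (MvPolynomial.map _ (X i))
      simp [ψ']
  haveI : IsScalarTower A (MvPolynomial (Fin n) A') B' := .of_algebraMap_eq fun a => by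
    show _ = ψ' (MvPolynomial.C (algebraMap A A' a))
    simp [ψ', ← IsScalarTower.algebraMap_apply]
  haveI hP : Algebra.IsPushout (MvPolynomial (Fin n) A) (MvPolynomial (Fin n) A') B B' :=
    ((Algebra.IsPushout.comp_iff (R := A) (S := MvPolynomial (Fin n) A) (R' := A')
      (S' := MvPolynomial (Fin n) A') (T := B) (T' := B')).1 ‹Algebra.IsPushout A A' B B'›.symm).symm
  haveI : Module.Flat (MvPolynomial (Fin n) A) (MvPolynomial (Fin n) A') :=
    Module.Flat.of_linearEquiv (Algebra.IsPushout.equiv A (MvPolynomial (Fin n) A) A' _).symm.toLinearEquiv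
  refine ⟨n, ψ', RingHom.ext fun a => by simp [ψ'], ?_, pcHom_pushout
    (P := MvPolynomial (Fin n) A) (P' := MvPolynomial (Fin n) A') (B := B) (B' := B') hψ3⟩
  intro b
  obtain ⟨x, rfl⟩ := (Algebra.IsPushout.equiv A A' B B').surjective b
  induction x with
  | zero => exact ⟨0, by simp⟩
  | add x y hx hy =>
    obtain ⟨p, hp⟩ := hx
    obtain ⟨q, hq⟩ := hy
    exact ⟨p + q, by rw [map_add, map_add, hp, hq]⟩
  | tmul a y =>
    obtain ⟨p, rfl⟩ := hψ2 y
    refine ⟨MvPolynomial.C a * MvPolynomial.map (algebraMap A A') p, ?_⟩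
    rw [Algebra.IsPushout.equiv_tmul, map_mul]
    refine congrArg₂ (· * ·) (by simp [ψ']) ?_
    exact (IsScalarTower.algebraMap_apply (MvPolynomial (Fin n) A) (MvPolynomial (Fin n) A') B' p).symm

/-- For a finite ring map, pseudo-coherence is that of the module. -/
theorem q_iff_of_finite [Algebra A B] [Module.Finite A B] :
    Q (algebraMap A B) ↔ DRing.IsPseudoCoherentModule' A B := by
  obtain ⟨n, α, hα⟩ := exists_presentation A B
  obtain ⟨r, β, hβ⟩ := exists_presentation A A
  have hself : PCHom (β : MvPolynomial (Fin r) A →+* A) :=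
    (Q.of_bijective (φ := algebraMap A A) Function.bijective_id).pcHom _ hβ (RingHom.ext β.commutes)
  have step1 : Q (algebraMap A B) ↔ PCHom (α : MvPolynomial (Fin n) A →+* B) :=
    ⟨fun h => h.pcHom _ hα (RingHom.ext α.commutes), fun h => ⟨n, _, RingHom.ext α.commutes, hα, h⟩⟩
  rw [step1]
  refine Iff.trans ?_ (DRingPC.pc'_iff _).symm
  refine Iff.trans (DRingPC.pc'_iff _) (forall_congr' fun m => ?_)
  refine Iff.trans ?_ (pc_restrict_iff (β : MvPolynomial (Fin r) A →+* A) hself m _).symm
  have key := finite_iff (R := A) (A := A) (B := B) (Dual.inD B B) m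
  refine Iff.trans ?_ (Iff.trans ((iff_via α hα _ m).symm.trans key) (iff_via β hβ _ m)) |>.trans ?_
  · let e := restrictInDIso (α : MvPolynomial (Fin n) A →+* B) (ModuleCat.of B B)
    exact ⟨DRingPC.of_iso e.symm, DRingPC.of_iso e⟩
  · let e := (DRing.restrictD (β : MvPolynomial (Fin r) A →+* A)).mapIso
      (restrictInDIso (algebraMap A B) (ModuleCat.of B B) ≪≫
        (DerivedCategory.singleFunctor (ModuleCat.{u} A) 0).mapIso (resBIso B))
    exact ⟨DRingPC.of_iso e, DRingPC.of_iso e.symm⟩

end Groth.Agent.PCMor
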