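import Groth.Agent.PCMor.Ring
import Groth.Prelude.Def_MoreMor
import Mathlib

/-!
# Pseudo-coherent morphisms: affine-local description
-/

set_option linter.style.haveILetI false

universe u

open CategoryTheory CategoryTheory.Limits AlgebraicGeometry TopologicalSpace

attribute [local instance] HasDerivedCategory.standard

namespace Groth.Agent.PCMor

/-- Pseudo-coherent morphisms, as a property of morphisms. -/
def PCP : MorphismProperty Scheme.{u} := fun _ _ f => MoreMor.IsPseudoCoherentMor f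

theorem isPseudoCoherentHom_iff {A B : Type u} [CommRing A] [CommRing B] [Algebra A B] :
    MoreMor.IsPseudoCoherentHom A B ↔ Q (algebraMap A B) := by
  constructor
  · rintro ⟨n, φ, hφ, h⟩
    refine ⟨n, φ.toRingHom, RingHom.ext φ.commutes, hφ, ?_⟩
    letI := φ.toRingHom.toAlgebra
    exact pcHom_iff.2 h
  · rintro ⟨n, ψ, h1, h2, h3⟩
    refine ⟨n, { ψ with commutes' := fun a => RingHom.congr_fun h1 a }, h2, ?_⟩
    letI := ψ.toAlgebra
    exact pcHom_iff.1 h3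

theorem pcMor_iff {X Y : Scheme.{u}} (f : X ⟶ Y) :
    MoreMor.IsPseudoCoherentMor f ↔
      ∀ (U : Y.affineOpens) (V : X.affineOpens) (e : V.1 ≤ f ⁻¹ᵁ U.1), Q (f.appLE U V e).hom := by
  constructor
  · intro h U V e
    letI := (f.appLE U V e).hom.toAlgebra
    exact isPseudoCoherentHom_iff.1 (h V.1 U.1 V.2 U.2 e)
  · intro h V U hV hU e
    letI := (f.appLE U V e).hom.toAlgebra
    exact isPseudoCoherentHom_iff.2 (h ⟨U, hU⟩ ⟨V, hV⟩ e)

instance : HasRingHomProperty (PCP.{u}) (fun {_ _ : Type u} [CommRing _] [CommRing _] φ => Q φ) where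
  isLocal_ringHomProperty := propertyIsLocal
  eq_affineLocally' := by
    ext X Y f
    rw [affineLocally_iff_affineOpens_le]
    exact pcMor_iff f

theorem pcMor_iff_exists {X Y : Scheme.{u}} (f : X ⟶ Y) :
    MoreMor.IsPseudoCoherentMor f ↔ ∀ x : X, ∃ (U : Y.affineOpens) (V : X.affineOpens) (_ : x ∈ V.1)
      (e : V.1 ≤ f ⁻¹ᵁ U.1), Q (f.appLE U V e).hom :=
  HasRingHomProperty.iff_exists_appLE (P := PCP)
    (stableUnderComposition.stableUnderCompositionWithLocalizationAway holdsForLocalizationAway).left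

theorem comp {X Y Z : Scheme.{u}} (f : X ⟶ Y) (g : Y ⟶ Z) (hf : MoreMor.IsPseudoCoherentMor f)
    (hg : MoreMor.IsPseudoCoherentMor g) : MoreMor.IsPseudoCoherentMor (f ≫ g) :=
  (HasRingHomProperty.stableUnderComposition (P := PCP) stableUnderComposition).comp_mem f g hf hg

theorem cancel {X Y S : Scheme.{u}} (f : X ⟶ Y) (g : Y ⟶ S) (hX : MoreMor.IsPseudoCoherentMor (f ≫ g))
    (hY : MoreMor.IsPseudoCoherentMor g) : MoreMor.IsPseudoCoherentMor f := by
  refine (pcMor_iff_exists f).2 fun x => ?_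
  obtain ⟨W, hW, hxW, -⟩ := exists_isAffineOpen_mem_and_subset (x := g (f x)) (U := (⊤ : S.Opens)) trivial
  obtain ⟨V, hV, hxV, hVW⟩ := exists_isAffineOpen_mem_and_subset (x := f x) (U := g ⁻¹ᵁ W) hxW
  obtain ⟨U, hU, hxU, hUV⟩ := exists_isAffineOpen_mem_and_subset (x := x) (U := f ⁻¹ᵁ V) hxV
  refine ⟨⟨V, hV⟩, ⟨U, hU⟩, hxU, hUV, ?_⟩
  have h1 := (pcMor_iff g).1 hY ⟨W, hW⟩ ⟨V, hV⟩ hVW
  have e : (U : X.Opens) ≤ (f ≫ g) ⁻¹ᵁ W := fun y hy => hVW (hUV hy)
  have h2 := (pcMor_iff (f ≫ g)).1 hX ⟨W, hW⟩ ⟨U, hU⟩ e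
  refine Q.cancel h1 ?_
  rw [← CommRingCat.hom_comp, Scheme.Hom.appLE_comp_appLE]
  exact h2

theorem baseChange {X S X' S' : Scheme.{u}} (f : X ⟶ S) (f' : X' ⟶ S') (g' : X' ⟶ X) (g : S' ⟶ S)
    [Flat g] (hc : IsPullback g' f' f g) (hf : MoreMor.IsPseudoCoherentMor f) : MoreMor.IsPseudoCoherentMor f' := by
  refine (pcMor_iff_exists f').2 fun x => ?_
  obtain ⟨V, hV, hxV, -⟩ := exists_isAffineOpen_mem_and_subset (x := g (f' x)) (U := (⊤ : S.Opens)) trivial
  obtain ⟨V', hV', hxV', hV'V⟩ := exists_isAffineOpen_mem_and_subset (x := f' x) (U := g ⁻¹ᵁ V) hxV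
  have hfx : g' x ∈ f ⁻¹ᵁ V := by
    show f (g' x) ∈ V
    rw [← Scheme.Hom.comp_apply, hc.w, Scheme.Hom.comp_apply]
    exact hxV
  obtain ⟨U, hU, hxU, hUV⟩ := exists_isAffineOpen_mem_and_subset (x := g' x) (U := f ⁻¹ᵁ V) hfx
  let U' : X'.Opens := g' ⁻¹ᵁ U ⊓ f' ⁻¹ᵁ V'
  let a := g'.resLE U U' inf_le_left
  let b := f'.resLE V' U' inf_le_right
  let c := f.resLE V U hUV
  let d := g.resLE V V' hV'V
  have hw : a ≫ c = b ≫ d := by
    rw [← cancel_mono V.ι]
    simp [a, b, c, d, hc.w]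
  have hpb : IsPullback a b c d := by
    refine ⟨⟨hw⟩, ⟨PullbackCone.IsLimit.mk hw (fun s => ?_) (fun s => ?_) (fun s => ?_) (fun s m hm₁ hm₂ => ?_)⟩⟩
    · refine IsOpenImmersion.lift U'.ι (hc.lift (s.fst ≫ U.ι) (s.snd ≫ V'.ι) ?_) ?_
      · have := congrArg (· ≫ V.ι) s.condition
        simpa [c, d] using this
      · rw [Scheme.Opens.range_ι]
        rintro _ ⟨y, rfl⟩
        refine ⟨?_, ?_⟩
        · show g' ((hc.lift _ _ _) y) ∈ U
          rw [← Scheme.Hom.comp_apply, hc.lift_fst, Scheme.Hom.comp_apply]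
          exact (s.fst y).2
        · show f' ((hc.lift _ _ _) y) ∈ V'
          rw [← Scheme.Hom.comp_apply, hc.lift_snd, Scheme.Hom.comp_apply]
          exact (s.snd y).2
    · rw [← cancel_mono U.ι]
      simp [a]
    · rw [← cancel_mono V'.ι]
      simp [b]
    · rw [← cancel_mono U'.ι, IsOpenImmersion.lift_fac]
      apply hc.hom_ext
      · rw [IsPullback.lift_fst, ← hm₁]
        simp [a]
      · rw [IsPullback.lift_snd, ← hm₂]
        simp [b]
  haveI : IsAffine U.toScheme := hU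
  haveI : IsAffine V.toScheme := hV
  haveI : IsAffine V'.toScheme := hV'
  haveI : IsAffineHom d := isAffineHom_of_isAffine d
  haveI hU' : IsAffine U'.toScheme := IsAffine.of_isPullback hpb
  refine ⟨⟨V', hV'⟩, ⟨U', hU'⟩, ⟨hxU, hxV'⟩, inf_le_right, ?_⟩
  haveI : (RingHom.toMorphismProperty fun {R S : Type u} [CommRing R] [CommRing S] φ => Q (A := R) (B := S) φ).RespectsIso :=
    RingHom.toMorphismProperty_respectsIso_iff.1 propertyIsLocal.respectsIso
  have hQ : Q c.appTop.hom := by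
    have h1 := (pcMor_iff f).1 hf ⟨V, hV⟩ ⟨U, hU⟩ hUV
    exact (MorphismProperty.arrow_mk_iso_iff (RingHom.toMorphismProperty fun {R S : Type u} [CommRing R] [CommRing S] φ => Q (A := R) (B := S) φ)
      (AlgebraicGeometry.arrowResLEAppIso f V U hUV)).2 h1
  haveI : Flat d := by
    dsimp only [d, Scheme.Hom.resLE]
    infer_instance
  have hd : d.appTop.hom.Flat := HasRingHomProperty.appTop @Flat d inferInstance
  refine (MorphismProperty.arrow_mk_iso_iff (RingHom.toMorphismProperty fun {R S : Type u} [CommRing R] [CommRing S] φ => Q (A := R) (B := S) φ)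
    (AlgebraicGeometry.arrowResLEAppIso f' V' U' inf_le_right)).1 ?_
  have hpo := (isPushout_appTop_of_isPullback hpb).flip
  change Q b.appTop.hom
  algebraize [c.appTop.hom, d.appTop.hom, a.appTop.hom, b.appTop.hom, b.appTop.hom.comp d.appTop.hom]
  haveI : IsScalarTower Γ(V, ⊤) Γ(U, ⊤) Γ(U', ⊤) := .of_algebraMap_eq' congr(($hpo.w).hom)
  haveI : Module.Flat Γ(V, ⊤) Γ(V', ⊤) := hd
  haveI : Algebra.IsPushout Γ(V, ⊤) Γ(V', ⊤) Γ(U, ⊤) Γ(U', ⊤) := CommRingCat.isPushout_iff_isPushout.1 hpo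
  exact Q.pushout (A := Γ(V, ⊤)) (B := Γ(U, ⊤)) (A' := Γ(V', ⊤)) (B' := Γ(U', ⊤)) hQ

theorem iff_of_isFinite {X S : Scheme.{u}} (f : X ⟶ S) [IsFinite f] :
    MoreMor.IsPseudoCoherentMor f ↔ ∀ (V : S.Opens), IsAffineOpen V →
      (letI := (f.app V).hom.toAlgebra
       DRing.IsPseudoCoherentModule' Γ(S, V) Γ(X, f ⁻¹ᵁ V)) := by
  have key : ∀ (V : S.Opens), IsAffineOpen V →
      (Q (f.app V).hom ↔ (letI := (f.app V).hom.toAlgebra
        DRing.IsPseudoCoherentModule' Γ(S, V) Γ(X, f ⁻¹ᵁ V))) := by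
    intro V hV
    letI := (f.app V).hom.toAlgebra
    haveI : Module.Finite Γ(S, V) Γ(X, f ⁻¹ᵁ V) := IsFinite.finite_app f V hV
    exact q_iff_of_finite (A := Γ(S, V)) (B := Γ(X, f ⁻¹ᵁ V))
  constructor
  · intro h V hV
    refine (key V hV).1 ?_
    rw [Scheme.Hom.app_eq_appLE]
    exact (pcMor_iff f).1 h ⟨V, hV⟩ ⟨f ⁻¹ᵁ V, hV.preimage f⟩ le_rfl
  · intro h
    refine (pcMor_iff_exists f).2 fun x => ?_
    obtain ⟨V, hV, hxV, -⟩ := exists_isAffineOpen_mem_and_subset (x := f x) (U := (⊤ : S.Opens)) trivial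
    refine ⟨⟨V, hV⟩, ⟨f ⁻¹ᵁ V, hV.preimage f⟩, hxV, le_rfl, ?_⟩
    have := (key V hV).2 (h V hV)
    rwa [Scheme.Hom.app_eq_appLE] at this

end Groth.Agent.PCMor
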