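import Groth.Agent.PCMor.Ring
import Groth.Agent.H9Misc.DRingTorRestrict
import Groth.Agent.H9Misc.DRingLBase
import Groth.Agent.KRegLib.Perfect
import Groth.Agent.FlatSyz5.PC
import Groth.Agent.S6949
import Groth.Prelude.Def_MoreMor
import Mathlib

/-!
# Perfect ring maps: pseudo-coherent of finite tor dimension
-/

set_option linter.style.haveILetI false

universe u

open CategoryTheory CategoryTheory.Limits MvPolynomial
open scoped TensorProduct

attribute [local instance] HasDerivedCategory.standard MvPolynomial.algebraMvPolynomial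

namespace Groth.Agent.PCMor

open H9Misc H9Misc.DRingTor H9Misc.DRingTorDescent H9Misc.DRingRestrict H9Misc.DRingRelPC

variable {A B C : Type u} [CommRing A] [CommRing B] [CommRing C]

/-- `φ` has finite tor dimension. -/
def TD {A B : Type u} [CommRing A] [CommRing B] (φ : A →+* B) : Prop :=
  ∃ d : ℕ, DRing.HasTorAmplitudeIn A (-(d : ℤ)) 0
    (Dual.inD A ((ModuleCat.restrictScalars φ).obj (ModuleCat.of B B)))

theorem td_iff [Algebra A B] : TD (algebraMap A B) ↔ DRing.HasFiniteTorDim A B := by
  refine exists_congr fun d => Iff.trans ?_ (DRingTor.torDimLE_iff d (ModuleCat.of A B)).symm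
  exact ⟨DRingTor.of_iso ((DerivedCategory.singleFunctor (ModuleCat.{u} A) 0).mapIso (resBIso B)),
    DRingTor.of_iso ((DerivedCategory.singleFunctor (ModuleCat.{u} A) 0).mapIso (resBIso B)).symm⟩

theorem TD.comp {φ : A →+* B} {χ : B →+* C} (hφ : TD φ) (hχ : TD χ) : TD (χ.comp φ) := by
  obtain ⟨d, hd⟩ := hφ
  obtain ⟨e, he⟩ := hχ
  refine ⟨d + e, ?_⟩
  algebraize [φ]
  have hd' : DRing.HasTorAmplitudeIn A (-(d : ℤ)) 0 (Dual.inD A B) :=
    DRingTor.of_iso ((DerivedCategory.singleFunctor (ModuleCat.{u} A) 0).mapIso (resBIso B)) hd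
  have h := hasTorAmplitudeIn_restrictScalars d hd'
    (Dual.inD B ((ModuleCat.restrictScalars χ).obj (ModuleCat.of C C))) (-(e : ℤ)) 0 he
  exact DRingTor.mono (a := -(e : ℤ) - d) (b := 0) (by push_cast; omega) le_rfl (DRingTor.of_iso
    (restrictInDIso φ _ ≪≫ (DerivedCategory.singleFunctor (ModuleCat.{u} A) 0).mapIso
      (ModuleCat.restrictScalarsComp'App φ χ (χ.comp φ) rfl (ModuleCat.of C C)).symm) h)

theorem TD.of_flat {φ : A →+* B} (h : φ.Flat) : TD φ := by
  algebraize [φ]
  haveI : Module.Flat A B := h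
  exact td_iff.2 ⟨0, (DRingTor.torDimLE_zero_iff (ModuleCat.of A B)).2 inferInstance⟩

theorem TD.of_bijective {φ : A →+* B} (h : Function.Bijective φ) : TD φ :=
  TD.of_flat (RingHom.Flat.of_bijective h)

open Polynomial in
theorem td_eval (c : A) : TD (Polynomial.evalRingHom c) := by
  refine ⟨1, ?_⟩
  let M := (ModuleCat.restrictScalars (Polynomial.evalRingHom c)).obj (ModuleCat.of A A)
  let i : A[X] →ₗ[A[X]] A[X] := LinearMap.mulLeft A[X] (Polynomial.X - Polynomial.C c)
  let q : A[X] →ₗ[A[X]] M :=
    { toFun := fun p => (show A from p.eval c)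
      map_add' := fun p p' => (Polynomial.eval_add (R := A) (p := p) (q := p') (x := c))
      map_smul' := fun r p => (Polynomial.eval_mul (R := A) (p := r) (q := p) (x := c)) }
  obtain ⟨w, hS⟩ := KRegLib.shortExact_of_exact i q
    (fun p p' h => (Polynomial.monic_X_sub_C c).isRegular.left h)
    (fun r => ⟨Polynomial.C (show A from r), (Polynomial.eval_C (R := A) (a := (show A from r)) (x := c))⟩)
    (fun p => by
      constructor
      · intro hp
        obtain ⟨s, hs⟩ := (dvd_iff_isRoot (p := p)).2 hp
        exact ⟨s, hs.symm⟩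
      · rintro ⟨s, rfl⟩
        show ((Polynomial.X - Polynomial.C c) * s).eval c = 0
        simp)
  haveI : Module.Flat A[X] (ModuleCat.of A[X] A[X]) := inferInstanceAs (Module.Flat A[X] A[X])
  have h0 := DRingTor.inD_of_flat (A := A[X]) (ModuleCat.of A[X] A[X])
  have h1 := (DRingTor.inD_succ_iff hS 0).2 (by simpa using h0)
  simpa using h1

open MvPolynomial in
theorem td_aeval : ∀ (k : ℕ) (P : Type u) [CommRing P] (p : Fin k → P), TD (eval₂Hom (RingHom.id P) p) := by
  intro k
  induction k with
  | zero =>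
    intro P _ p
    refine TD.of_bijective ⟨fun f g h => ?_, fun a => ⟨MvPolynomial.C a, by simp⟩⟩
    obtain ⟨a, rfl⟩ := C_surjective (Fin 0) f
    obtain ⟨b, rfl⟩ := C_surjective (Fin 0) g
    simpa using h
  | succ k ih =>
    intro P _ p
    let e := (finSuccEquiv P k).toRingEquiv.toRingHom
    let ev := Polynomial.evalRingHom (MvPolynomial.C (p 0) : MvPolynomial (Fin k) P)
    have he : TD e := TD.of_bijective (finSuccEquiv P k).bijective
    have heq : eval₂Hom (RingHom.id P) p =
        (eval₂Hom (RingHom.id P) fun i : Fin k => p i.succ).comp (ev.comp e) := by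
      refine MvPolynomial.ringHom_ext (fun r => ?_) fun i => ?_
      · simp [e, ev, finSuccEquiv_apply]
      · cases i using Fin.cases with
        | zero => simp [e, ev, finSuccEquiv_apply]
        | succ j => simp [e, ev, finSuccEquiv_apply]
    rw [heq]
    exact (he.comp (td_eval _)).comp (ih P fun i => p i.succ)

theorem td_pushout {P P' B' : Type u} [CommRing P] [CommRing P'] [CommRing B'] [Algebra P B] [Algebra P P']
    [Module.Flat P P'] [Algebra P' B'] [Algebra B B'] [Algebra P B'] [IsScalarTower P P' B']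
    [IsScalarTower P B B'] [Algebra.IsPushout P P' B B'] (h : TD (algebraMap P B)) :
    TD (algebraMap P' B') := by
  obtain ⟨d, hd⟩ := td_iff.1 h
  have h1 : DRing.HasTorAmplitudeIn P' (-(d : ℤ)) 0 (Dual.inD P' (P' ⊗[P] B)) := by
    have h2 := DRingLBase.inD_baseChange (algebraMap P P') (RingHom.flat_algebraMap_iff.2 inferInstance)
      (ModuleCat.of P B) ((DRingTor.torDimLE_iff d (ModuleCat.of P B)).1 hd)
    have he : (algebraMap P P').toAlgebra = ‹Algebra P P'› := Algebra.algebra_ext _ _ fun _ => rfl
    revert h2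
    generalize algebraMap P P' = φ at he
    subst he
    exact fun h => h
  refine td_iff.2 ⟨d, (DRingTor.torDimLE_iff d (ModuleCat.of P' B')).2 ?_⟩
  exact DRingTor.of_iso ((DerivedCategory.singleFunctor (ModuleCat.{u} P') 0).mapIso
    (Algebra.IsPushout.equiv P P' B B').toLinearEquiv.toModuleIso) h1

theorem td_map {φ : A →+* B} (h : TD φ) (k : ℕ) : TD (MvPolynomial.map (σ := Fin k) φ) := by
  algebraize [φ]
  haveI : IsScalarTower A (MvPolynomial (Fin k) A) (MvPolynomial (Fin k) B) :=
    .of_algebraMap_eq fun a => (MvPolynomial.map_C _ a).symm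
  exact td_pushout (P := A) (P' := MvPolynomial (Fin k) A) (B := B) (B' := MvPolynomial (Fin k) B) h

/-- A map from a polynomial ring extending a map of finite tor dimension has finite tor dimension. -/
theorem TD.presentation {φ : A →+* B} (h : TD φ) {n : ℕ} (ψ : MvPolynomial (Fin n) A →+* B)
    (hC : ψ.comp MvPolynomial.C = φ) : TD ψ := by
  have heq : ψ = (eval₂Hom (RingHom.id B) fun i => ψ (X i)).comp (MvPolynomial.map φ) := by
    refine MvPolynomial.ringHom_ext (fun r => ?_) fun i => by simp
    rw [← hC]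
    simp
  rw [heq]
  exact (td_map h n).comp (td_aeval n B _)

theorem td_C (n : ℕ) : TD (MvPolynomial.C : A →+* MvPolynomial (Fin n) A) :=
  TD.of_flat (RingHom.flat_algebraMap_iff.2 (inferInstance : Module.Flat A (MvPolynomial (Fin n) A)))

/-- Finite tor dimension cancels localizations of the source. -/
theorem td_cancel_localization {P L : Type u} [CommRing P] [CommRing L] [Algebra P L] (M : Submonoid P)
    [IsLocalization M L] (χ : L →+* B) (h : TD (χ.comp (algebraMap P L))) : TD χ := by
  algebraize [χ, χ.comp (algebraMap P L)]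
  haveI : Module.Flat P L := IsLocalization.flat L M
  haveI : IsLocalization (Algebra.algebraMapSubmonoid B M) B := by
    refine IsLocalization.self ?_
    rintro _ ⟨m, hm, rfl⟩
    show IsUnit (χ (algebraMap P L m))
    exact (IsLocalization.map_units L ⟨m, hm⟩).map χ
  haveI : IsScalarTower P B B := IsScalarTower.of_algebraMap_eq fun _ => rfl
  haveI : Algebra.IsPushout P B L B := Algebra.isPushout_of_isLocalization M L B B
  haveI : Algebra.IsPushout P L B B := Algebra.IsPushout.symm inferInstance
  exact td_pushout (P := P) (P' := L) (B := B) (B' := B) h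

/-- Zariski locality of finite tor dimension along a surjection. -/
theorem td_local {P : Type u} [CommRing P] (α : P →+* B) (hα : Function.Surjective α) {r : ℕ} (G : Fin r → P)
    (hG : Ideal.span (Set.range fun i => α (G i)) = ⊤) (h : ∀ i, TD (awayα α (G i))) : TD α := by
  obtain ⟨c, hc⟩ := (Ideal.mem_span_range_iff_exists_fun).1
    (hG ▸ Submodule.mem_top : (1 : B) ∈ Ideal.span (Set.range fun i => α (G i)))
  choose c' hc' using fun i => hα (c i)
  let G₀ : P := 1 - ∑ i, c' i * G i
  have hG₀ : α G₀ = 0 := by simp [G₀, hc', hc]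
  let g : Fin (r + 1) → P := Fin.cons G₀ G
  have hg : Ideal.span (Set.range g) = ⊤ := by
    rw [Ideal.eq_top_iff_one, show (1 : P) = G₀ + ∑ i, c' i * G i from (sub_add_cancel 1 _).symm]
    exact add_mem (Ideal.subset_span ⟨0, rfl⟩)
      (sum_mem fun i _ => Ideal.mul_mem_left _ _ (Ideal.subset_span ⟨i.succ, by simp [g]⟩))
  let M := (ModuleCat.restrictScalars α).obj (ModuleCat.of B B)
  have hloc : ∀ i, TD (awayα α (g i)) := by
    intro i
    cases i using Fin.cases with
    | succ j => exact h j
    | zero =>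
      haveI : Subsingleton (Localization.Away (α G₀)) :=
        IsLocalization.subsingleton (M := Submonoid.powers (α G₀)) ⟨1, by simpa using hG₀⟩
      refine TD.of_flat ?_
      letI := (awayα α (g 0)).toAlgebra
      haveI : Subsingleton (Localization.Away (α (g 0))) := ‹Subsingleton (Localization.Away (α G₀))›
      exact (inferInstance : Module.Flat (Localization.Away (g 0)) (Localization.Away (α (g 0))))
  choose d hd using hloc
  refine ⟨Finset.univ.sup d, DRingTor.of_iso ((DerivedCategory.singleFunctorIsoCompQ (ModuleCat.{u} P) 0).app M).symm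
    (Groth.Agent.S6949.result g hg ((HomologicalComplex.single _ (ComplexShape.up ℤ) 0).obj M) _ 0 fun i => ?_)⟩
  let eB := extendSelfIso (B := B) (algebraMap B (Localization.Away (α (g i))))
  let eM := (thetaIso α (g i)).app (ModuleCat.of B B) ≪≫ (ModuleCat.restrictScalars _).mapIso eB
  refine DRingTor.of_iso ?_ (DRingTor.mono (a := -(d i : ℤ)) (b := 0) ?_ le_rfl (hd i))
  · exact (DerivedCategory.singleFunctor _ 0).mapIso eM.symm ≪≫
      (DerivedCategory.singleFunctorIsoCompQ _ 0).app _ ≪≫
      DerivedCategory.Q.mapIso ((HomologicalComplex.singleMapHomologicalComplex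
        (ModuleCat.extendScalars.{u, u, u} (algebraMap P (Localization.Away (g i)))) (ComplexShape.up ℤ) 0).app M).symm
  · have := Finset.le_sup (f := d) (Finset.mem_univ i)
    omega

/-- A perfect ring map: pseudo-coherent and of finite tor dimension. -/
def PQ {A B : Type u} [CommRing A] [CommRing B] (φ : A →+* B) : Prop := Q φ ∧ TD φ

theorem pq_comp {φ : A →+* B} {χ : B →+* C} (hφ : PQ φ) (hχ : PQ χ) : PQ (χ.comp φ) :=
  ⟨hφ.1.comp hχ.1, hφ.2.comp hχ.2⟩

theorem pq_of_bijective {φ : A →+* B} (h : Function.Bijective φ) : PQ φ :=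
  ⟨Q.of_bijective h, TD.of_bijective h⟩

theorem pq_holdsForLocalizationAway : RingHom.HoldsForLocalizationAway @PQ := fun R S _ _ _ r _ =>
  ⟨holdsForLocalizationAway S r, TD.of_flat (RingHom.flat_algebraMap_iff.2 (IsLocalization.flat S (Submonoid.powers r)))⟩

theorem pq_stableUnderComposition : RingHom.StableUnderComposition @PQ :=
  fun _ _ _ _ _ _ _ _ hf hg => pq_comp hf hg

theorem pq_localizationAwayPreserves : RingHom.LocalizationAwayPreserves @PQ := by
  intro R S _ _ f r R' S' _ _ _ _ _ _ hf
  refine ⟨localizationAwayPreserves f r R' S' hf.1, td_cancel_localization (Submonoid.powers r) _ ?_⟩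
  rw [IsLocalization.Away.map, IsLocalization.map_comp]
  exact hf.2.comp (pq_holdsForLocalizationAway S' (f r)).2

theorem pq_ofLocalizationSpanTarget : RingHom.OfLocalizationSpanTarget @PQ := by
  rw [RingHom.ofLocalizationSpanTarget_iff_finite]
  intro R S _ _ f s hs h
  have hQ : Q f := ofLocalizationSpanTarget f (s : Set S) hs fun r => (h r).1
  refine ⟨hQ, ?_⟩
  obtain ⟨n, α, hα1, hα2, -⟩ := hQ
  choose G hG using fun i : Fin s.card => hα2 (s.equivFin.symm i).1
  suffices hT : TD α by
    rw [← hα1]
    exact (td_C n).comp hT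
  refine td_local α hα2 G ?_ fun i => ?_
  · rw [← hs]
    congr 1
    ext x
    constructor
    · rintro ⟨i, rfl⟩
      change α (G i) ∈ s
      rw [hG]
      exact (s.equivFin.symm i).2
    · intro hx
      exact ⟨s.equivFin ⟨x, hx⟩, by simp [hG]⟩
  · have hT : TD ((algebraMap S (Localization.Away (α (G i)))).comp f) := by
      rw [hG]
      exact (h (s.equivFin.symm i)).2
    refine td_cancel_localization (Submonoid.powers (G i)) _ ?_
    rw [awayα_comp]
    refine hT.presentation _ ?_
    rw [RingHom.comp_assoc, hα1]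

theorem pq_propertyIsLocal : RingHom.PropertyIsLocal @PQ :=
  ⟨pq_localizationAwayPreserves, pq_ofLocalizationSpanTarget,
    pq_ofLocalizationSpanTarget.ofLocalizationSpan
      (pq_stableUnderComposition.stableUnderCompositionWithLocalizationAway pq_holdsForLocalizationAway).left,
    (pq_stableUnderComposition.stableUnderCompositionWithLocalizationAway pq_holdsForLocalizationAway).right⟩

theorem pq_pushout {A' B' : Type u} [CommRing A'] [CommRing B'] [Algebra A B] [Algebra A A'] [Module.Flat A A']
    [Algebra A' B'] [Algebra B B'] [Algebra A B'] [IsScalarTower A A' B'] [IsScalarTower A B B']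
    [Algebra.IsPushout A A' B B'] (h : PQ (algebraMap A B)) : PQ (algebraMap A' B') :=
  ⟨h.1.pushout, td_pushout (P := A) (P' := A') h.2⟩

theorem isPerfectHom_iff [Algebra A B] : MoreMor.IsPerfectHom A B ↔ PQ (algebraMap A B) := by
  refine and_congr ?_ td_iff.symm
  constructor
  · rintro ⟨n, φ, hφ, h⟩
    refine ⟨n, φ.toRingHom, RingHom.ext φ.commutes, hφ, ?_⟩
    letI := φ.toRingHom.toAlgebra
    exact pcHom_iff.2 h
  · rintro ⟨n, ψ, h1, h2, h3⟩
    refine ⟨n, { ψ with commutes' := fun a => RingHom.congr_fun h1 a }, h2, ?_⟩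
    letI := ψ.toAlgebra
    exact pcHom_iff.1 h3

/-- A perfect ring map is one with a perfect presentation. -/
theorem isPerfectHom_iff_presentation [Algebra A B] :
    MoreMor.IsPerfectHom A B ↔ ∃ (n : ℕ) (φ : MvPolynomial (Fin n) A →ₐ[A] B), Function.Surjective φ ∧
      letI := φ.toRingHom.toAlgebra
      DRing.IsPerfectModule (MvPolynomial (Fin n) A) B := by
  rw [isPerfectHom_iff]
  constructor
  · rintro ⟨⟨n, ψ, h1, h2, h3⟩, hT⟩
    have hTψ := hT.presentation ψ h1
    refine ⟨n, { ψ with commutes' := fun a => RingHom.congr_fun h1 a }, h2, ?_⟩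
    letI := ψ.toAlgebra
    obtain ⟨d, hd⟩ := td_iff.1 hTψ
    exact (DRingPerfect.isPerfect_iff _).2
      ⟨pcHom_iff.1 h3, -(d : ℤ), 0, (DRingTor.torDimLE_iff d (ModuleCat.of _ B)).1 hd⟩
  · rintro ⟨n, φ, hφ, h⟩
    letI := φ.toRingHom.toAlgebra
    have hT : TD φ.toRingHom := td_iff.2 (KRegLib.hasFiniteTorDim_of_perfect B h)
    have h1 : φ.toRingHom.comp MvPolynomial.C = algebraMap A B := RingHom.ext φ.commutes
    refine ⟨⟨n, φ.toRingHom, h1, hφ, pcHom_iff.2 ((DRingPerfect.isPerfect_iff _).1 h).1⟩, ?_⟩
    rw [← h1]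
    exact (td_C n).comp hT

/-- Flat, finitely presented ring maps are perfect. -/
theorem pq_of_flat [Algebra A B] [Module.Flat A B] [Algebra.FinitePresentation A B] : PQ (algebraMap A B) := by
  obtain ⟨n, φ, hφ, hker⟩ := Algebra.FinitePresentation.out (R := A) (A := B)
  refine ⟨⟨n, φ.toRingHom, RingHom.ext φ.commutes, hφ, ?_⟩, TD.of_flat (RingHom.flat_algebraMap_iff.2 inferInstance)⟩
  letI := φ.toRingHom.toAlgebra
  haveI : IsScalarTower A (MvPolynomial (Fin n) A) B := IsScalarTower.of_algebraMap_eq fun a => (φ.commutes a).symm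
  haveI : Module.FinitePresentation (MvPolynomial (Fin n) A) B :=
    Module.finitePresentation_of_surjective (Algebra.linearMap (MvPolynomial (Fin n) A) B) hφ hker
  exact pcHom_iff.2 (FlatSyz5.pc' A (MvPolynomial (Fin n) A) B)

end Groth.Agent.PCMor
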